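import Groth.Agent.QCoh.Stalk
import Groth.Agent.QCoh.Support
import Groth.Prelude.Def_RefHull

/-!
# The locus where a morphism of coherent modules is bijective on stalks is open
-/

set_option backward.isDefEq.respectTransparency false
set_option backward.isDefEq.respectTransparency.types false
set_option linter.style.haveILetI false

universe u

open CategoryTheory AlgebraicGeometry TopologicalSpace Opposite

namespace Groth.Agent.MiscSh16

open Groth.Agent.QCoh

variable {X : Scheme.{u}} {M N : X.Modules}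

/-- Sections-level criterion for bijectivity on a stalk. -/
theorem bijective_stalk_iff (hM : Coh.IsQCoh M) (hN : Coh.IsQCoh N) (φ : M ⟶ N) {U : X.Opens}
    (hU : IsAffineOpen U) {x : X} (hx : x ∈ U) :
    Function.Bijective (RefHull.stalkMapₗ φ x) ↔
      (∀ m : Γ(M, U), φ.app U m = 0 → ∃ a ∉ (hU.primeIdealOf ⟨x, hx⟩).asIdeal, a • m = 0) ∧
      ∀ n : Γ(N, U), ∃ a ∉ (hU.primeIdealOf ⟨x, hx⟩).asIdeal, ∃ m : Γ(M, U), φ.app U m = a • n := by
  letI := stalkAlg (X := X) hx
  letI := stalkModule M hx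
  letI := stalkModule N hx
  haveI := isLocalizedModule_germLin hM hU hx
  haveI := isLocalizedModule_germLin hN hU hx
  set S := (hU.primeIdealOf ⟨x, hx⟩).asIdeal.primeCompl with hS
  have hgN : ∀ m : Γ(M, U), RefHull.stalkMapₗ φ x (germLin M hx m) = germLin N hx (φ.app U m) :=
    fun m => RefHull.stalkMapₗ_germ φ x hx m
  have hsm : ∀ (a : Γ(X, U)) (w : M.presheaf.stalk x),
      RefHull.stalkMapₗ φ x (a • w) = a • RefHull.stalkMapₗ φ x w := fun a w =>
    map_smul (RefHull.stalkMapₗ φ x) (X.presheaf.germ U x hx a) w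
  have hu : ∀ (s : S) (w w' : N.presheaf.stalk x), (s : Γ(X, U)) • w = (s : Γ(X, U)) • w' → w = w' :=
    fun s w w' h => ((Module.End.isUnit_iff _).1 (IsLocalizedModule.map_units (germLin N hx) s)).1 h
  constructor
  · rintro ⟨hinj, hsur⟩
    refine ⟨fun m hm => ?_, fun n => ?_⟩
    · obtain ⟨a, ha⟩ := (IsLocalizedModule.eq_zero_iff S (germLin M hx)).1
        (hinj (((hgN m).trans (by rw [hm, map_zero])).trans (map_zero _).symm))
      exact ⟨a.1, a.2, ha⟩
    · obtain ⟨w, hw⟩ := hsur (germLin N hx n)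
      obtain ⟨⟨m, s⟩, hms⟩ := IsLocalizedModule.surj S (germLin M hx) w
      have h1 : germLin N hx ((s : Γ(X, U)) • n) = germLin N hx (φ.app U m) := by
        rw [map_smul, ← hw, ← hsm, ← hgN, ← hms]; rfl
      obtain ⟨c, hc⟩ := (IsLocalizedModule.eq_iff_exists S (germLin N hx)).1 h1
      refine ⟨(c : Γ(X, U)) * s, (c * s).2, (c : Γ(X, U)) • m, ?_⟩
      rw [Scheme.Modules.Hom.app_smul, mul_smul]
      exact hc.symm
  · rintro ⟨hk, hc⟩
    refine ⟨(injective_iff_map_eq_zero _).2 fun w hw => ?_, fun w => ?_⟩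
    · obtain ⟨⟨m, s⟩, hms⟩ := IsLocalizedModule.surj S (germLin M hx) w
      have h1 : germLin N hx (φ.app U m) = 0 := by
        rw [← hgN, ← hms]
        exact (hsm _ w).trans (by rw [hw, smul_zero])
      obtain ⟨c, hc'⟩ := (IsLocalizedModule.eq_zero_iff S (germLin N hx)).1 h1
      obtain ⟨a, ha, ham⟩ := hk ((c : Γ(X, U)) • m) ((Scheme.Modules.Hom.app_smul φ _ m).trans hc')
      have h2 : germLin M hx m = 0 := (IsLocalizedModule.eq_zero_iff S (germLin M hx)).2
        ⟨⟨a, ha⟩ * c, by rw [Submonoid.smul_def, Submonoid.coe_mul, mul_smul]; exact ham⟩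
      have h3 := hms.trans h2
      exact ((Module.End.isUnit_iff _).1 (IsLocalizedModule.map_units (germLin M hx) s)).1
        (h3.trans (map_zero _).symm)
    · obtain ⟨⟨n, s⟩, hns⟩ := IsLocalizedModule.surj S (germLin N hx) w
      obtain ⟨a, ha, m, hm⟩ := hc n
      refine ⟨IsLocalizedModule.mk' (germLin M hx) m (⟨a, ha⟩ * s), hu (⟨a, ha⟩ * s) _ _ ?_⟩
      rw [← hsm, ← Submonoid.smul_def, IsLocalizedModule.mk'_cancel', hgN, hm, map_smul, ← hns,
        Submonoid.coe_mul, mul_smul]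
      rfl

theorem isOpen_bijective_locus [IsLocallyNoetherian X] (hM : Coh.IsCoh M) (hN : Coh.IsCoh N) (φ : M ⟶ N) :
    IsOpen {x : X | Function.Bijective (RefHull.stalkMapₗ φ x)} := by
  classical
  rw [isOpen_iff_forall_mem_open]
  intro x hx
  obtain ⟨_, ⟨U, hU, rfl⟩, hxU, -⟩ :=
    X.isBasis_affineOpens.exists_subset_of_mem_open (Set.mem_univ x) isOpen_univ
  have hU' : IsAffineOpen U := hU
  haveI := finite_sections hM hU'
  haveI := finite_sections hN hU'
  haveI : IsNoetherianRing Γ(X, U) := noetherian_sections ⟨U, hU'⟩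
  set p := (hU'.primeIdealOf ⟨x, hxU⟩).asIdeal with hp
  obtain ⟨hk, hc⟩ := (bijective_stalk_iff (isCoh_iff.1 hM).1 (isCoh_iff.1 hN).1 φ hU' hxU).1 hx
  let f : Γ(M, U) →ₗ[Γ(X, U)] Γ(N, U) :=
    { toFun := φ.app U
      map_add' := map_add _
      map_smul' := Scheme.Modules.Hom.app_smul φ }
  obtain ⟨sk, hsk⟩ := IsNoetherian.noetherian (LinearMap.ker f)
  obtain ⟨nN, gN, hgN⟩ := Module.Finite.exists_fin (R := Γ(X, U)) (M := Γ(N, U))
  have hker : ∀ w ∈ Submodule.span Γ(X, U) (sk : Set Γ(M, U)), φ.app U w = 0 := fun w hw => by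
    rw [hsk] at hw
    exact hw
  choose a ha ha' using fun m : sk => hk m.1 (hker _ (Submodule.subset_span m.2))
  choose b hb m hm using fun j : Fin nN => hc (gN j)
  set d : Γ(X, U) := (∏ i, a i) * ∏ j, b j with hd
  have hd0 : d ∉ p := fun h => by
    rcases (hU'.primeIdealOf ⟨x, hxU⟩).isPrime.mem_or_mem h with h | h <;>
      obtain ⟨i, -, hi⟩ := (hU'.primeIdealOf ⟨x, hxU⟩).isPrime.prod_mem_iff.1 h
    exacts [ha i hi, hb i hi]
  refine ⟨X.basicOpen d, fun y hy => ?_, (X.basicOpen d).2, (mem_basicOpen_iff_notMem hU' hxU d).2 hd0⟩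
  have hyU : y ∈ U := X.basicOpen_le d hy
  have hdy := (mem_basicOpen_iff_notMem hU' hyU d).1 hy
  refine (bijective_stalk_iff (isCoh_iff.1 hM).1 (isCoh_iff.1 hN).1 φ hU' hyU).2
    ⟨fun w hw => ⟨d, hdy, ?_⟩, fun n => ⟨d, hdy, ?_⟩⟩
  · have hw' : w ∈ Submodule.span Γ(X, U) (sk : Set Γ(M, U)) := hsk.symm ▸ (LinearMap.mem_ker.2 hw)
    induction hw' using Submodule.span_induction with
    | mem w hws =>
      rw [hd, mul_comm, mul_smul, ← Finset.prod_erase_mul _ _ (Finset.mem_univ (⟨w, hws⟩ : sk)), mul_smul,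
        ha' ⟨w, hws⟩, smul_zero, smul_zero]
    | zero => exact smul_zero _
    | add u v hu hv hu' hv' =>
      rw [smul_add, hu' (hker _ hu), hv' (hker _ hv), add_zero]
    | smul c u hu hu' => rw [smul_comm, hu' (hker _ hu), smul_zero]
  · suffices ∀ n, d • n ∈ LinearMap.range f from this n
    intro n
    have hn : n ∈ Submodule.span Γ(X, U) (Set.range gN) := hgN ▸ trivial
    induction hn using Submodule.span_induction with
    | mem w hws =>
      obtain ⟨j, rfl⟩ := hws
      rw [hd, mul_smul, ← Finset.prod_erase_mul _ _ (Finset.mem_univ j), mul_smul]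
      exact Submodule.smul_mem _ _ (Submodule.smul_mem _ _ ⟨m j, hm j⟩)
    | zero => rw [smul_zero]; exact zero_mem _
    | add u v _ _ hu hv => rw [smul_add]; exact add_mem hu hv
    | smul c u _ hu => rw [smul_comm]; exact Submodule.smul_mem _ _ hu

end Groth.Agent.MiscSh16
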