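import Groth.Agent.ZClosLib.Basic
import Groth.Prelude.Def_DefoSh
import Mathlib.RingTheory.Flat.Equalizer
import Mathlib.RingTheory.Artinian.Ring

/-!
# Morphisms of deformations of modules over a fixed Artinian algebra are isomorphisms
-/

set_option linter.style.haveILetI false

universe u

open CategoryTheory AlgebraicGeometry TopologicalSpace Opposite ArtFun ArtFun.Art

namespace Groth.Agent.MiscSh16

theorem bijective_of_mod_nilpotent {A : Type u} [CommRing A] (I : Ideal A) (hI : IsNilpotent I)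
    {M N E : Type u} [AddCommGroup M] [Module A M] [AddCommGroup N] [Module A N] [Zero E]
    [Module.Flat A N] (f : M →ₗ[A] N) (π : M → E) (π' : N → E) (hπ : Function.Surjective π)
    (hcomp : ∀ m, π' (f m) = π m) (hker : ∀ m, π m = 0 → m ∈ I • (⊤ : Submodule A M))
    (hker' : ∀ n, π' n = 0 → n ∈ I • (⊤ : Submodule A N)) (hzero : π' 0 = 0)
    (hdiff : ∀ a b, π' a = π' b → π' (a - b) = 0) :
    Function.Bijective f := by
  obtain ⟨k, hk⟩ := hI
  have hnak : ∀ {P : Type u} [AddCommGroup P] [Module A P] (L : Submodule A P),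
      (⊤ : Submodule A P) ≤ L ⊔ I • ⊤ → L = ⊤ := by
    intro P _ _ L hL
    have h : ∀ j : ℕ, (⊤ : Submodule A P) ≤ L ⊔ I ^ j • ⊤ := by
      intro j
      induction j with
      | zero => simp
      | succ j ih =>
        refine ih.trans (sup_le le_sup_left ((Submodule.smul_mono le_rfl hL).trans ?_))
        rw [Submodule.smul_sup, ← Submodule.smul_assoc, smul_eq_mul, ← pow_succ]
        exact sup_le_sup_right Submodule.smul_le_right _
    simpa [hk] using h k
  have hsurj : Function.Surjective f := by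
    rw [← LinearMap.range_eq_top]
    refine hnak _ fun n _ => ?_
    obtain ⟨m, hm⟩ := hπ (π' n)
    have h : n - f m ∈ I • (⊤ : Submodule A N) := hker' _ (hdiff _ _ (hm.symm.trans (hcomp m).symm))
    simpa using Submodule.add_mem_sup (LinearMap.mem_range_self f m) h
  refine ⟨?_, hsurj⟩
  rw [← LinearMap.ker_eq_bot]
  set K := LinearMap.ker f with hK
  have hinj := LinearMap.lTensor_injective_of_exact_of_flat f hsurj K.subtype Subtype.val_injective
    (LinearMap.exact_subtype_ker_map f) (A ⧸ I)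
  have hKI : ∀ x : K, x ∈ I • (⊤ : Submodule A K) := by
    intro x
    have hx : (x : M) ∈ I • (⊤ : Submodule A M) :=
      hker _ (by rw [← hcomp, show f (x : M) = 0 from x.2, hzero])
    have h1 : (1 : A ⧸ I) ⊗ₜ[A] (x : M) = 0 := by
      refine (TensorProduct.quotTensorEquivQuotSMul M I).injective ?_
      rw [map_zero, TensorProduct.quotTensorEquivQuotSMul_mk_one_tmul, Submodule.Quotient.mk_eq_zero]
      exact hx
    have h2 : (1 : A ⧸ I) ⊗ₜ[A] x = 0 := hinj (by rw [map_zero, LinearMap.lTensor_tmul]; exact h1)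
    have h3 := congrArg (TensorProduct.quotTensorEquivQuotSMul K I) h2
    rw [map_zero, TensorProduct.quotTensorEquivQuotSMul_mk_one_tmul, Submodule.Quotient.mk_eq_zero] at h3
    exact h3
  have htop : (⊥ : Submodule A K) = ⊤ := hnak ⊥ fun x _ => by rw [bot_sup_eq]; exact hKI x
  exact (Submodule.eq_bot_iff _).2 fun m hm => by
    have : (⟨m, hm⟩ : K) ∈ (⊥ : Submodule A K) := htop ▸ trivial
    exact congrArg Subtype.val ((Submodule.mem_bot A).1 this)

variable {k : Type u} [Field k] {X : Scheme.{u}} [X.Over (Spec (CommRingCat.of k))] {E : X.Modules}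
  {A : Art k k}

theorem isIso_defoHom (D D' : DefoSh.Defo E A) (φ : D.sheaf ⟶ D'.sheaf)
    (hact : ∀ a : A, D.act a ≫ φ = φ ≫ D'.act a) (hπ : φ ≫ D'.π = D.π) : IsIso φ := by
  refine Groth.Agent.ZClosLib.isIso_of_stalkMap_bijective φ fun p => ?_
  letI := D.stalkMod p
  letI := D'.stalkMod p
  haveI : Module.Flat A (D'.sheaf.presheaf.stalk p) := D'.flat p
  let f : D.sheaf.presheaf.stalk p →ₗ[A] D'.sheaf.presheaf.stalk p :=
    { toFun := RefHull.stalkMapₗ φ p
      map_add' := map_add _
      map_smul' := fun a v => by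
        show RefHull.stalkMapₗ φ p (RefHull.stalkMapₗ (D.act a) p v) = RefHull.stalkMapₗ (D'.act a) p _
        rw [← DefoSh.stalkMapₗ_comp_apply, ← DefoSh.stalkMapₗ_comp_apply, hact] }
  refine bijective_of_mod_nilpotent (IsLocalRing.maximalIdeal A) ?_ f
    (RefHull.stalkMapₗ D.π p) (RefHull.stalkMapₗ D'.π p) (D.surj p) (fun v => ?_) (D.ker_le p)
    (D'.ker_le p) (map_zero _) fun a b h => by rw [map_sub, h, sub_self]
  · rw [← IsLocalRing.jacobson_eq_maximalIdeal (⊥ : Ideal A) bot_ne_top]
    exact IsArtinianRing.isNilpotent_jacobson_bot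
  · show RefHull.stalkMapₗ D'.π p (RefHull.stalkMapₗ φ p v) = _
    rw [← DefoSh.stalkMapₗ_comp_apply, hπ]

end Groth.Agent.MiscSh16
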